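import Cfsg.Agent.Lib.Recog.Walter.Field.CaseDef
import Cfsg.Agent.Lib.Recog.Walter.Field.XLocal
import Cfsg.Agent.Lib.Classical.SmallIso

/-!
Owner: helper22. Walter, field part, fixed field of at least eleven elements: the centraliser of a field automorphism `f`.

* `Qf f`: the group `C(f)/⟨f⟩`; `Level`: what is used about it; `LevelStatement`: it exists below a `Top`;
* `Top.card_cent`: `|C(t) ∩ C(f)| = 2 |PSL(2, q₀)| n`;
* `Level.index_mul`: the index of `X` is the `p'`-part of `n`.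
-/

set_option autoImplicit false
set_option linter.all false

namespace CfsgLib.Walter.Field

open Subgroup
open CfsgLib.Recog.JankoThompson (P2)

universe u

variable {G : Type u} [Group G]

/-- the centraliser of `f` -/
def Cf (f : G) : Subgroup G := centralizer ({f} : Set G)

theorem mem_Cf {f x : G} : x ∈ Cf f ↔ x * f = f * x := mem_centralizer_singleton_iff

/-- `⟨f⟩` in its centraliser -/
def Zf (f : G) : Subgroup ↥(Cf f) := (zpowers f).subgroupOf (Cf f)

theorem Zf_comm {f : G} {z : ↥(Cf f)} (hz : z ∈ Zf f) (g : ↥(Cf f)) : g * z = z * g := by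
  obtain ⟨k, hk⟩ := mem_zpowers_iff.1 (mem_subgroupOf.1 hz)
  refine Subtype.ext ?_
  push_cast
  rw [← hk]
  exact ((show Commute (g : G) f from mem_Cf.1 g.2).zpow_right k).eq

instance Zf_normal (f : G) : (Zf f).Normal :=
  ⟨fun z hz g => by rwa [Zf_comm hz g, mul_inv_cancel_right]⟩

/-- `C(f)/⟨f⟩` -/
abbrev Qf (f : G) : Type u := ↥(Cf f) ⧸ Zf f

/-- what is used about `C(f)/⟨f⟩` -/
structure Level (t f : G) (htf : t ∈ Cf f) (F₀ : Type) [Field F₀] [Fintype F₀] (X : Subgroup (Qf f)) : Prop where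
  no_fusion : ∀ g : G, g * f * g⁻¹ ∈ zpowers f → g * f * g⁻¹ = f
  normal : X.Normal
  simp : IsSimpleGroup ↥X
  ab : ∀ P : Sylow 2 ↥X, ∀ a b : P, a * b = b * a
  tmem : QuotientGroup.mk' (Zf f) ⟨t, htf⟩ ∈ X
  cent : Nonempty (↥(centralizer ({(⟨_, tmem⟩ : ↥X)} : Set ↥X)) ≃* Multiplicative (ZMod 2) × P2 F₀)

/-- the data below a `Top` -/
def LevelStatement : Prop :=
  ∀ (G : Type u) [Group G] [Finite G] (t : G) (E L : Subgroup G) (F : Type) [Field F] [Fintype F]
    (h : Setting t E L F) (Φ : Subgroup G) (s₁ s₂ : G) (p b : ℕ) (f : G) (F₀ : Type) [Field F₀] [Fintype F₀],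
    Top h Φ s₁ s₂ p b f F₀ → 11 ≤ Fintype.card F₀ → Below G →
      ∃ (htf : t ∈ Cf f) (X : Subgroup (Qf f)), Level t f htf F₀ X

variable [Finite G] {t : G} {E L : Subgroup G} {F : Type} [Field F] [Fintype F] {h : Setting t E L F}
  {Φ : Subgroup G} {s₁ s₂ : G} {p b : ℕ} {f : G} {F₀ : Type} [Field F₀] [Fintype F₀]

namespace Top

variable (T : Top h Φ s₁ s₂ p b f F₀)
include T

theorem f_mem_E : f ∈ E := T.galois.le T.mem

theorem t_mem_Cf : t ∈ Cf f := mem_Cf.2 (h.comm T.f_mem_E).symm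

theorem odd_order : Odd (p ^ b) := by
  obtain ⟨m, hm, -⟩ := T.part
  exact h.odd_n.of_dvd_nat (hm ▸ dvd_mul_right _ _)

theorem p_ne_two : p ≠ 2 := fun e => by
  have h1 := T.odd_order
  rw [e, Nat.odd_pow_iff T.pos.ne'] at h1
  exact absurd h1 (by decide)

theorem phi_comm {a : G} (ha : a ∈ Φ) : a * f = f * a := by
  haveI := T.galois.cyclic
  exact congrArg Subtype.val ((IsCyclic.commGroup (α := ↥Φ)).mul_comm ⟨a, ha⟩ ⟨f, T.mem⟩)

theorem mem_cent_iff {x : G} : x ∈ centralizer ({t} : Set G) ⊓ Cf f ↔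
    ∃ a ∈ zpowers t, ∃ l ∈ L ⊓ centralizer ({f} : Set G), ∃ φ ∈ Φ, x = a * (l * φ) := by
  constructor
  · rintro ⟨hxt, hxf⟩
    have key : ∀ a ∈ zpowers t, ∀ e ∈ E, x = a * e →
        ∃ a ∈ zpowers t, ∃ l ∈ L ⊓ centralizer ({f} : Set G), ∃ φ ∈ Φ, x = a * (l * φ) := by
      intro a ha e he hx
      obtain ⟨l, hl, φ, hφ, rfl⟩ := T.galois.cover e he
      refine ⟨a, ha, l, ⟨hl, mem_centralizer_singleton_iff.2 ?_⟩, φ, hφ, hx⟩
      have h1 : Commute a f := by
        obtain ⟨k, rfl⟩ := mem_zpowers_iff.1 ha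
        exact (show Commute t f from mem_Cf.1 T.t_mem_Cf).zpow_left k
      have h2 : Commute x f := mem_Cf.1 hxf
      have h3 : Commute φ f := T.phi_comm hφ
      have e1 : l = a⁻¹ * x * φ⁻¹ := by rw [hx]; group
      rw [e1]
      exact ((h1.inv_left.mul_left h2).mul_left h3.inv_left).eq
    obtain ⟨e, he, he' | he'⟩ := h.loc.form x hxt
    · exact key 1 (one_mem _) e he (by rw [one_mul, he'])
    · exact key t (mem_zpowers t) e he he'
  · rintro ⟨a, ha, l, ⟨hl, hlf⟩, φ, hφ, rfl⟩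
    refine ⟨mul_mem (zpowers_le.2 (mem_centralizer_singleton_iff.2 rfl) ha) ?_, mul_mem ?_ (mul_mem hlf ?_)⟩
    · exact h.le_centralizer (mul_mem (h.le hl) (T.galois.le hφ))
    · exact zpowers_le.2 T.t_mem_Cf ha
    · exact mem_Cf.2 (T.phi_comm hφ)

theorem card_cent : Nat.card ↥(centralizer ({t} : Set G) ⊓ Cf f) = 2 * Nat.card (P2 F₀) * h.n := by
  obtain ⟨e⟩ := T.iso
  let ψ : ↥(zpowers t) × ↥(L ⊓ centralizer ({f} : Set G)) × ↥Φ → ↥(centralizer ({t} : Set G) ⊓ Cf f) := fun x =>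
    ⟨(x.1 : G) * ((x.2.1 : G) * (x.2.2 : G)), T.mem_cent_iff.2 ⟨_, x.1.2, _, x.2.1.2, _, x.2.2.2, rfl⟩⟩
  have hψ : Function.Bijective ψ := by
    refine ⟨?_, ?_⟩
    · rintro ⟨⟨a, ha⟩, ⟨l, hl⟩, ⟨φ, hφ⟩⟩ ⟨⟨a', ha'⟩, ⟨l', hl'⟩, ⟨φ', hφ'⟩⟩ he
      have he' : a * (l * φ) = a' * (l' * φ') := congrArg Subtype.val he
      have h1 : a'⁻¹ * a ∈ zpowers t ⊓ E := by
        refine ⟨mul_mem ((zpowers t).inv_mem ha') ha, ?_⟩
        rw [show a'⁻¹ * a = (l' * φ') * (l * φ)⁻¹ by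
          rw [eq_mul_inv_iff_mul_eq, mul_assoc, he', inv_mul_cancel_left]]
        exact mul_mem (mul_mem (h.le hl'.1) (T.galois.le hφ')) (E.inv_mem (mul_mem (h.le hl.1) (T.galois.le hφ)))
      rw [h.prod.2.2.2.1, mem_bot, inv_mul_eq_one] at h1
      subst h1
      have he2 : l * φ = l' * φ' := mul_left_cancel he'
      have h2 : l'⁻¹ * l ∈ Φ ⊓ L := by
        refine ⟨?_, L.mul_mem (L.inv_mem hl'.1) hl.1⟩
        rw [show l'⁻¹ * l = φ' * φ⁻¹ by rw [eq_mul_inv_iff_mul_eq, mul_assoc, he2, inv_mul_cancel_left]]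
        exact mul_mem hφ' (Φ.inv_mem hφ)
      rw [T.galois.inf, mem_bot, inv_mul_eq_one] at h2
      subst h2
      have he3 : φ = φ' := mul_left_cancel he2
      subst he3
      rfl
    · intro x
      obtain ⟨a, ha, l, hl, φ, hφ, hx⟩ := T.mem_cent_iff.1 x.2
      exact ⟨(⟨a, ha⟩, ⟨l, hl⟩, ⟨φ, hφ⟩), Subtype.ext hx.symm⟩
  rw [← Nat.card_congr (Equiv.ofBijective ψ hψ), Nat.card_prod, Nat.card_prod, Nat.card_zpowers, h.ord,
    Nat.card_congr e.toEquiv, T.galois.card, mul_assoc]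

/-- an element centralising `t` modulo `⟨f⟩` centralises it -/
theorem commute_lift {x : ↥(Cf f)}
    (hx : QuotientGroup.mk' (Zf f) x * QuotientGroup.mk' (Zf f) ⟨t, T.t_mem_Cf⟩ =
      QuotientGroup.mk' (Zf f) ⟨t, T.t_mem_Cf⟩ * QuotientGroup.mk' (Zf f) x) : (x : G) * t = t * x := by
  rw [← map_mul, ← map_mul, QuotientGroup.mk'_eq_mk'] at hx
  obtain ⟨z, hz, he⟩ := hx
  have he' : (x : G) * t * z = t * x := congrArg Subtype.val he
  have hzf : Commute (z : G) t := by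
    obtain ⟨k, hk⟩ := mem_zpowers_iff.1 (mem_subgroupOf.1 hz)
    rw [← hk]
    exact (show Commute t f from mem_Cf.1 T.t_mem_Cf).symm.zpow_left k
  have htt : t * t = 1 := by rw [← pow_two, ← h.ord, pow_orderOf_eq_one]
  have e1 : t * x * t = (x : G) * z := by
    rw [← he', mul_assoc ((x : G) * t), hzf.eq, ← mul_assoc, mul_assoc (x : G) t t, htt, mul_one]
  have hzx : Commute (x : G) (z : G) := congrArg Subtype.val (Zf_comm hz x)
  have hz2 : (z : G) * z = 1 := by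
    have h1 : t * (t * x * t) * t = (x : G) := by
      rw [show t * (t * (x : G) * t) * t = t * t * x * (t * t) by group, htt, one_mul, mul_one]
    rw [e1, show t * ((x : G) * z) * t = t * x * (z * t) by group, hzf.eq,
      show t * (x : G) * (t * z) = t * x * t * z by group, e1, mul_assoc] at h1
    exact mul_eq_left.1 h1
  have hz1 : (z : G) = 1 := by
    have hd : orderOf (z : G) ∣ p ^ b := T.order ▸ orderOf_dvd_of_mem_zpowers (mem_subgroupOf.1 hz)
    exact orderOf_eq_one_iff.1 (Nat.eq_one_of_dvd_coprimes (Nat.coprime_two_left.2 T.odd_order)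
      (orderOf_dvd_of_pow_eq_one (by rw [pow_two, hz2])) hd)
  rwa [hz1, mul_one] at he'

/-- the centraliser of `t` modulo `⟨f⟩` -/
theorem card_cent_quot :
    Nat.card ↥(centralizer ({QuotientGroup.mk' (Zf f) ⟨t, T.t_mem_Cf⟩} : Set (Qf f))) * p ^ b =
      2 * Nat.card (P2 F₀) * h.n := by
  set π := QuotientGroup.mk' (Zf f) with hπ
  set D := (centralizer ({t} : Set G)).subgroupOf (Cf f) with hD
  have hmap : D.map π = centralizer ({π ⟨t, T.t_mem_Cf⟩} : Set (Qf f)) := by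
    refine le_antisymm ?_ fun q hq => ?_
    · rintro _ ⟨x, hx, rfl⟩
      refine mem_centralizer_singleton_iff.2 ?_
      rw [← map_mul, ← map_mul]
      exact congrArg π (Subtype.ext (mem_centralizer_singleton_iff.1 (mem_subgroupOf.1 hx)))
    · obtain ⟨x, rfl⟩ := QuotientGroup.mk'_surjective _ q
      exact ⟨x, mem_subgroupOf.2 (mem_centralizer_singleton_iff.2
        (T.commute_lift (mem_centralizer_singleton_iff.1 hq))), rfl⟩
  have hle : Zf f ≤ D := fun z hz => by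
    refine mem_subgroupOf.2 (mem_centralizer_singleton_iff.2 ?_)
    exact congrArg Subtype.val (Zf_comm hz ⟨t, T.t_mem_Cf⟩).symm
  have hcD : Nat.card ↥D = 2 * Nat.card (P2 F₀) * h.n := by
    rw [← T.card_cent, hD]
    exact Nat.card_congr
      { toFun := fun x => ⟨x.1.1, mem_subgroupOf.1 x.2, x.1.2⟩
        invFun := fun x => ⟨⟨x.1, x.2.2⟩, mem_subgroupOf.2 x.2.1⟩
        left_inv := fun x => rfl
        right_inv := fun x => rfl }
  have hZ : Nat.card ↥(Zf f) = p ^ b := by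
    rw [Zf, Nat.card_congr (subgroupOfEquivOfLe (show zpowers f ≤ Cf f from zpowers_le.2 (mem_Cf.2 rfl))).toEquiv,
      Nat.card_zpowers, T.order]
  have h1 := MonoidHom.ker (π.comp D.subtype) |>.card_mul_index
  rw [index_ker, MonoidHom.range_eq_map, ← Subgroup.map_map, ← MonoidHom.range_eq_map, range_subtype, hmap,
    hcD] at h1
  rw [← h1, mul_comm]
  congr 1
  rw [← hZ]
  refine Nat.card_congr
    { toFun := fun x => ⟨⟨x.1, hle x.2⟩, ?_⟩
      invFun := fun x => ⟨x.1.1, ?_⟩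
      left_inv := fun x => rfl
      right_inv := fun x => rfl }
  · exact (QuotientGroup.eq_one_iff _).2 x.2
  · exact (QuotientGroup.eq_one_iff _).1 x.2

/-- the order of `PSL(2, q₀)` -/
theorem two_card_psl : 2 * Nat.card (P2 F₀) = Fintype.card F₀ * (Fintype.card F₀ ^ 2 - 1) := by
  have hodd : Fintype.card F₀ % 2 = 1 := by
    by_contra hne
    exact (Nat.not_even_iff_odd.2 h.odd_card)
      (T.card ▸ (Nat.even_iff.2 (by omega)).pow_of_ne_zero (pow_ne_zero _ T.prime.ne_zero))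
  have := CfsgLib.Classical.Two.card_PSL_two (F := F₀)
  rwa [Nat.gcd_eq_left (show 2 ∣ Fintype.card F₀ - 1 by omega)] at this

theorem mod8₀ : Fintype.card F₀ % 8 = 3 ∨ Fintype.card F₀ % 8 = 5 := by
  have h8 := h.mod8
  have hodd : Fintype.card F₀ % 2 = 1 := by
    by_contra hne
    exact (Nat.not_even_iff_odd.2 h.odd_card)
      (T.card ▸ (Nat.even_iff.2 (by omega)).pow_of_ne_zero (pow_ne_zero _ T.prime.ne_zero))
  rwa [T.card, mod_eight_of_odd_pow T.odd_order hodd] at h8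

end Top

namespace Level

variable (T : Top h Φ s₁ s₂ p b f F₀) {htf : t ∈ Cf f} {X : Subgroup (Qf f)} (Lv : Level t f htf F₀ X)
include T Lv

theorem order_tbar : orderOf (⟨_, Lv.tmem⟩ : ↥X) = 2 := by
  rw [← orderOf_coe]
  haveI : Fact (Nat.Prime 2) := ⟨Nat.prime_two⟩
  refine orderOf_eq_prime ?_ fun e => ?_
  · rw [← map_pow]
    exact (congrArg (QuotientGroup.mk' (Zf f))
      (Subtype.ext (by push_cast; rw [← h.ord, pow_orderOf_eq_one]))).trans (map_one _)
  · have h1 : (⟨t, htf⟩ : ↥(Cf f)) ∈ Zf f := (QuotientGroup.eq_one_iff _).1 e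
    have h2 : orderOf t ∣ p ^ b := T.order ▸ orderOf_dvd_of_mem_zpowers (mem_subgroupOf.1 h1)
    rw [h.ord] at h2
    exact (Nat.not_even_iff_odd.2 T.odd_order) (even_iff_two_dvd.2 h2)

theorem one_class (hbig : 11 ≤ Fintype.card F₀) (z : ↥X) (hz : orderOf z = 2) :
    ∃ x : ↥X, x * z * x⁻¹ = ⟨_, Lv.tmem⟩ := by
  haveI := Lv.simp
  obtain ⟨e⟩ := Lv.cent
  obtain ⟨c⟩ := CfsgLib.Recog.JankoThompson.exists_ctx Lv.ab (Lv.order_tbar T) e T.mod8₀ hbig
  exact isConj_iff.1 ((c.one_class z hz).symm.trans (c.one_class _ (Lv.order_tbar T)))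

/-- the index of `X` is the `p'`-part of `n` -/
theorem index_mul (hbig : 11 ≤ Fintype.card F₀) : X.index * p ^ b = h.n := by
  haveI := Lv.normal
  set τ := QuotientGroup.mk' (Zf f) ⟨t, htf⟩ with hτ
  set D := centralizer ({τ} : Set (Qf f)) with hD
  have hsup : X ⊔ D = ⊤ := eq_top_iff.2 fun q _ => by
    have hz : orderOf (⟨q * τ * q⁻¹, Lv.normal.conj_mem _ Lv.tmem q⟩ : ↥X) = 2 := by
      rw [← orderOf_coe, ← Lv.order_tbar T, ← orderOf_coe (⟨_, Lv.tmem⟩ : ↥X)]
      exact (MulAut.conj q).orderOf_eq τ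
    obtain ⟨x, hx⟩ := Lv.one_class T hbig _ hz
    have hx' : (x : Qf f) * (q * τ * q⁻¹) * (x : Qf f)⁻¹ = τ := congrArg Subtype.val hx
    have h1 : (x : Qf f) * q ∈ D := mem_centralizer_singleton_iff.2 (mul_inv_eq_iff_eq_mul.1
      (by rw [mul_inv_rev]; simpa [mul_assoc] using hx'))
    rw [show q = (x : Qf f)⁻¹ * ((x : Qf f) * q) by group]
    exact mul_mem_sup (inv_mem x.2) h1
  have h1 : X.index = X.relIndex D := by
    rw [← relIndex_top_right X, ← hsup, sup_comm, relIndex_sup_right]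
  have h2 := (X.subgroupOf D).card_mul_index
  have h3 : Nat.card ↥(X.subgroupOf D) = 2 * Nat.card (P2 F₀) := by
    obtain ⟨e⟩ := Lv.cent
    rw [show 2 * Nat.card (P2 F₀) = Nat.card (Multiplicative (ZMod 2) × P2 F₀) by
      rw [Nat.card_prod, Nat.card_eq_fintype_card (α := Multiplicative (ZMod 2)), Fintype.card_multiplicative,
        ZMod.card],
      ← Nat.card_congr e.toEquiv]
    exact Nat.card_congr
      { toFun := fun x => ⟨⟨x.1.1, mem_subgroupOf.1 x.2⟩, mem_centralizer_singleton_iff.2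
          (Subtype.ext (mem_centralizer_singleton_iff.1 x.1.2))⟩
        invFun := fun x => ⟨⟨x.1.1, mem_centralizer_singleton_iff.2
          (congrArg Subtype.val (mem_centralizer_singleton_iff.1 x.2))⟩, mem_subgroupOf.2 x.1.2⟩
        left_inv := fun x => rfl
        right_inv := fun x => rfl }
  have h4 := T.card_cent_quot
  rw [show Nat.card ↥(centralizer ({QuotientGroup.mk' (Zf f) ⟨t, T.t_mem_Cf⟩} : Set (Qf f))) = Nat.card ↥D from rfl,
    ← h2, h3, show (X.subgroupOf D).index = X.index from h1.symm, mul_assoc] at h4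
  exact Nat.eq_of_mul_eq_mul_left (Nat.mul_pos two_pos Nat.card_pos) h4

theorem index_facts (hbig : 11 ≤ Fintype.card F₀) : Odd X.index ∧ ¬ p ∣ X.index := by
  obtain ⟨m, hm, hpm⟩ := T.part
  have h1 := Lv.index_mul T hbig
  have e : X.index = m := by
    rw [hm, mul_comm] at h1
    exact Nat.eq_of_mul_eq_mul_left (pow_pos T.prime.pos b) h1
  exact ⟨h.odd_n.of_dvd_nat ⟨p ^ b, h1.symm⟩, e ▸ hpm⟩

end Level

end CfsgLib.Walter.Field
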