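import Cfsg.Agent.Lib.Recog.Walter.Field.Big.Transfer
import Cfsg.Agent.Lib.Recog.Walter.Field.PPart.Defs

/-!
Owner: helper22. Walter, field part, prime at least five and fixed field of at least eleven elements: `StepBig` from the
structure of `C(f)/⟨f⟩` (`LevelStatement`) and the `p`-local half (`PPartStatement`).

* `Level.exists_ppart`: the hypotheses `PPart` from the scalar action in `X`;
* `stepBig_of`.
-/

set_option autoImplicit false
set_option linter.all false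

namespace CfsgLib.Walter.Field

open Subgroup
open CfsgLib.Recog.JankoThompson (P2)

universe u

variable {G : Type u} [Group G] [Finite G] {t : G} {E L : Subgroup G} {F : Type} [Field F] [Fintype F]
  {h : Setting t E L F} {Φ : Subgroup G} {s₁ s₂ : G} {p b : ℕ} {f : G} {F₀ : Type} [Field F₀] [Fintype F₀]

/-- an element of `⟨f⟩` with trivial square is trivial -/
theorem Top.eq_one_of_sq (T : Top h Φ s₁ s₂ p b f F₀) {z : G} (hz : z ∈ zpowers f) (h2 : z * z = 1) : z = 1 :=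
  orderOf_eq_one_iff.1 (Nat.eq_one_of_dvd_coprimes (Nat.coprime_two_left.2 T.odd_order)
    (orderOf_dvd_of_pow_eq_one (by rw [pow_two, h2])) (T.order ▸ orderOf_dvd_of_mem_zpowers hz))

namespace Level

variable (T : Top h Φ s₁ s₂ p b f F₀) {htf : t ∈ Cf f} {X : Subgroup (Qf f)} (Lv : Level t f htf F₀ X)
include T Lv

theorem exists_ppart (hp5 : 5 ≤ p) (hbig : 11 ≤ Fintype.card F₀) :
    ∃ (c : G) (A : Subgroup G) (l d : ℕ), PPart p f t c A l d := by
  classical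
  haveI : Fact p.Prime := ⟨T.prime⟩
  haveI := Lv.normal
  haveI := Lv.simp
  obtain ⟨e⟩ := Lv.cent
  obtain ⟨⟨m0, hm0, hq⟩, hcard, hscal⟩ :=
    CfsgLib.Recog.Walter.FieldXLevel.xlocal Lv.ab (Lv.order_tbar T) e T.mod8₀ hbig
  obtain ⟨R⟩ := hscal p T.prime hp5 (Lv.p_dvd T hp5 hbig)
  set q := Fintype.card F₀ with hqdef
  set π := QuotientGroup.mk' (Zf f) with hπ
  set P := R.P.map X.subtype with hP
  set A₀ : Subgroup ↥(Cf f) := P.comap π with hA₀
  set A := A₀.map (Cf f).subtype with hA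
  have htt : t * t = 1 := by rw [← pow_two, ← h.ord, pow_orderOf_eq_one]
  have hAmem : ∀ {a : G}, a ∈ A ↔ ∃ ha : a ∈ Cf f, π ⟨a, ha⟩ ∈ P := fun {a} =>
    ⟨fun ⟨x, hx, he⟩ => he ▸ ⟨x.2, hx⟩, fun ⟨ha, hx⟩ => ⟨⟨a, ha⟩, hx, rfl⟩⟩
  have hfZ : (⟨f, mem_Cf.2 rfl⟩ : ↥(Cf f)) ∈ Zf f := mem_subgroupOf.2 (mem_zpowers f)
  -- the scalar element
  obtain ⟨c₀, hc₀⟩ := QuotientGroup.mk'_surjective (Zf f) (R.c : Qf f)
  have hct : (c₀ : G) * t = t * c₀ := T.commute_lift (by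
    rw [hc₀]; exact congrArg Subtype.val R.c_t)
  have hcf : (c₀ : G) * f = f * c₀ := mem_Cf.1 c₀.2
  -- `A` is a `p`-group of index prime to `p` in `C(f)`
  have hZp : IsPGroup p ↥(Zf f) := (IsPGroup.of_card (n := b) (by rw [Nat.card_zpowers, T.order]) :
    IsPGroup p ↥(zpowers f)).of_equiv (subgroupOfEquivOfLe (show zpowers f ≤ Cf f from zpowers_le.2 (mem_Cf.2 rfl))).symm
  have hA₀p : IsPGroup p ↥A₀ := by
    have hk : IsPGroup p ↥π.ker := by rw [hπ, QuotientGroup.ker_mk']; exact hZp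
    exact (R.pgroup.map X.subtype).comap_of_ker_isPGroup π hk
  have hAi : ¬ p ∣ A₀.index := by
    rw [hA₀, index_comap_of_surjective _ (QuotientGroup.mk'_surjective _), hP, index_map_subtype]
    intro h1
    rcases (Nat.Prime.dvd_mul T.prime).1 h1 with h2 | h2
    · have h3 := R.P.card_mul_index
      rw [R.card_P] at h3
      obtain ⟨k, hk⟩ := h2
      have h4 : p ^ ((Nat.card ↥X).factorization p + 1) ∣ Nat.card ↥X := ⟨k, by rw [pow_succ, mul_assoc, ← hk, h3]⟩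
      have h5 := (T.prime.pow_dvd_iff_le_factorization Nat.card_pos.ne').1 h4
      omega
    · exact (Lv.index_facts T hbig).2 h2
  -- commutators in `A` are trivial
  have hscalG : ∀ a ∈ A, ∃ z ∈ zpowers f, (c₀ : G) * a * (c₀ : G)⁻¹ = a ^ R.l * z := by
    intro a ha
    obtain ⟨haC, x, hx, hxe⟩ := hAmem.1 ha
    have h1 : π (c₀ * ⟨a, haC⟩ * c₀⁻¹) = π ((⟨a, haC⟩ : ↥(Cf f)) ^ R.l) := by
      rw [map_mul, map_mul, map_inv, map_pow, hc₀, ← hxe]
      exact congrArg Subtype.val (R.scalar x hx)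
    rw [QuotientGroup.mk'_eq_mk'] at h1
    obtain ⟨z, hz, he⟩ := h1
    refine ⟨(z : G)⁻¹, inv_mem (mem_subgroupOf.1 hz), ?_⟩
    have he' : (c₀ : G) * a * (c₀ : G)⁻¹ * z = a ^ R.l := congrArg Subtype.val he
    rw [← he']; group
  have hAf : ∀ a ∈ A, a * f = f * a := fun a ha => mem_Cf.1 (hAmem.1 ha).1
  have hcomm : ∀ a ∈ A, ∀ a' ∈ A, a * a' = a' * a := by
    intro a ha a' ha'
    obtain ⟨haC, x, hx, hxe⟩ := hAmem.1 ha
    obtain ⟨haC', x', hx', hxe'⟩ := hAmem.1 ha'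
    set k := a * a' * a⁻¹ * a'⁻¹ with hk
    have hkZ : k ∈ zpowers f := by
      have h1 : π (⟨a, haC⟩ * ⟨a', haC'⟩ * (⟨a, haC⟩ : ↥(Cf f))⁻¹ * (⟨a', haC'⟩ : ↥(Cf f))⁻¹) = 1 := by
        rw [map_mul, map_mul, map_mul, map_inv, map_inv, ← hxe, ← hxe']
        exact congrArg Subtype.val (show x * x' * x⁻¹ * x'⁻¹ = 1 by rw [R.comm x hx x' hx']; group)
      exact mem_subgroupOf.1 ((QuotientGroup.eq_one_iff (N := Zf f) _).1 h1)
    have hcen : ∀ z ∈ zpowers f, ∀ y : G, y * f = f * y → Commute y z := fun z hz y hy => by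
      obtain ⟨i, rfl⟩ := mem_zpowers_iff.1 hz
      exact (show Commute y f from hy).zpow_right i
    obtain ⟨z, hz, hcz⟩ := hscalG a ha
    obtain ⟨z', hz', hcz'⟩ := hscalG a' ha'
    have hk' : Commute a' k := hcen k hkZ a' (hAf a' ha')
    have hka : Commute a k := hcen k hkZ a (hAf a ha)
    -- `a ^ i` against `a' ^ j`
    have hswap : a * a' = k * (a' * a) := by rw [hk]; group
    have hone : ∀ j : ℕ, a * a' ^ j = k ^ j * (a' ^ j * a) := by
      intro j
      induction j with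
      | zero => simp
      | succ j ih =>
        calc a * a' ^ (j + 1) = a * a' ^ j * a' := by rw [pow_succ, mul_assoc]
          _ = k ^ j * a' ^ j * (a * a') := by rw [ih]; group
          _ = k ^ j * (a' ^ j * k) * (a' * a) := by rw [hswap]; group
          _ = k ^ j * (k * a' ^ j) * (a' * a) := by rw [(hk'.pow_left j).eq]
          _ = k ^ (j + 1) * (a' ^ (j + 1) * a) := by rw [pow_succ, pow_succ]; group
    have hpow : ∀ i j : ℕ, a ^ i * a' ^ j = k ^ (i * j) * (a' ^ j * a ^ i) := by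
      intro i j
      induction i with
      | zero => simp
      | succ i ih =>
        calc a ^ (i + 1) * a' ^ j = a ^ i * (a * a' ^ j) := by rw [pow_succ, mul_assoc]
          _ = a ^ i * k ^ j * (a' ^ j * a) := by rw [hone]; group
          _ = k ^ j * (a ^ i * a' ^ j) * a := by rw [((hka.pow_left i).pow_right j).eq]; group
          _ = k ^ j * k ^ (i * j) * (a' ^ j * (a ^ i * a)) := by rw [ih]; group
          _ = k ^ ((i + 1) * j) * (a' ^ j * a ^ (i + 1)) := by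
            rw [← pow_add, ← pow_succ, show j + i * j = (i + 1) * j by ring]
    have hfix : (c₀ : G) * k * (c₀ : G)⁻¹ = k := by rw [(hcen k hkZ c₀ hcf).eq, mul_inv_cancel_right]
    have hl2 : k ^ (R.l * R.l) = k := by
      have hzc : Commute z (a' ^ R.l * z') :=
        ((hcen z hz a' (hAf a' ha')).symm.pow_right _).mul_right (hcen z' hz' z (hcen z hz f rfl).eq.symm)
      have hz'c : Commute z' (a ^ R.l) := (hcen z' hz' a (hAf a ha)).symm.pow_right _
      rw [← mul_left_inj ((c₀ : G) * (a' * a) * (c₀ : G)⁻¹)]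
      calc k ^ (R.l * R.l) * ((c₀ : G) * (a' * a) * (c₀ : G)⁻¹)
          = k ^ (R.l * R.l) * (((c₀ : G) * a' * (c₀ : G)⁻¹) * ((c₀ : G) * a * (c₀ : G)⁻¹)) := by group
        _ = k ^ (R.l * R.l) * (a' ^ R.l * a ^ R.l) * (z' * z) := by
            rw [hcz, hcz', show a' ^ R.l * z' * (a ^ R.l * z) = a' ^ R.l * (z' * a ^ R.l) * z by group, hz'c.eq]
            group
        _ = a ^ R.l * a' ^ R.l * (z' * z) := by rw [hpow]
        _ = (a ^ R.l * z) * (a' ^ R.l * z') := by rw [mul_assoc (a ^ R.l) z, hzc.eq]; group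
        _ = (c₀ : G) * (a * a') * (c₀ : G)⁻¹ := by rw [← hcz, ← hcz']; group
        _ = k * ((c₀ : G) * (a' * a) * (c₀ : G)⁻¹) := by
            rw [hswap]
            calc (c₀ : G) * (k * (a' * a)) * (c₀ : G)⁻¹
                = (c₀ : G) * k * (c₀ : G)⁻¹ * ((c₀ : G) * (a' * a) * (c₀ : G)⁻¹) := by group
              _ = _ := by rw [hfix]
    have hk1 : k = 1 := by
      by_contra hne
      obtain ⟨j, -, hj⟩ := (Nat.dvd_prime_pow T.prime).1 (T.order ▸ orderOf_dvd_of_mem_zpowers hkZ)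
      have hj0 : j ≠ 0 := fun e => hne (orderOf_eq_one_iff.1 (by rw [hj, e, pow_zero]))
      have h1 : R.l * R.l ≡ 1 [MOD p] :=
        ((pow_eq_pow_iff_modEq (x := k) (n := R.l * R.l) (m := 1)).1 (by rw [hl2, pow_one])).of_dvd
          (hj ▸ dvd_pow_self p hj0)
      have h2 := (ZMod.natCast_eq_natCast_iff _ _ _).2 h1
      push_cast at h2
      exact R.l_sq (by rw [pow_two, h2])
    rw [hswap, hk1, one_mul]
  refine ⟨c₀, A, R.l, 3, ⟨T.p_ne_two, ⟨b, T.pos, T.order⟩, h.ord, mem_Cf.1 htf, hcf, hct, hA₀p.map _, ?_, hcomm,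
    ?_, ?_, ?_, fun g hg => Lv.no_fusion g hg, ?_, ?_, ?_, ?_, R.l_sq⟩⟩
  · refine hAmem.2 ⟨mem_Cf.2 rfl, ?_⟩
    rw [show π ⟨f, mem_Cf.2 rfl⟩ = 1 from (QuotientGroup.eq_one_iff (N := Zf f) _).2 hfZ]
    exact one_mem _
  · intro a ha
    obtain ⟨haC, x, hx, hxe⟩ := hAmem.1 ha
    refine hAmem.2 ⟨mul_mem (mul_mem htf haC) (inv_mem htf), ?_⟩
    rw [show (⟨t * a * t⁻¹, mul_mem (mul_mem htf haC) (inv_mem htf)⟩ : ↥(Cf f)) =
      ⟨t, htf⟩ * ⟨a, haC⟩ * (⟨t, htf⟩ : ↥(Cf f))⁻¹ from rfl, map_mul, map_mul, map_inv, ← hxe]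
    exact ⟨x⁻¹, inv_mem hx, (congrArg Subtype.val (R.inverted x hx)).symm⟩
  · -- `A` is a Sylow subgroup of `C(f)`
    intro Q hQ hQf
    obtain ⟨S₂, hS₂⟩ := (hQ.of_equiv (subgroupOfEquivOfLe (show Q ≤ Cf f from fun x hx => mem_Cf.2 (hQf x hx))).symm
      ).exists_le_sylow
    obtain ⟨u, hu⟩ := MulAction.exists_smul_eq ↥(Cf f) S₂ (hA₀p.toSylow hAi)
    refine ⟨u, mem_Cf.1 u.2, fun x hx => hAmem.2 ⟨mul_mem (mul_mem u.2 (mem_Cf.2 (hQf x hx))) (inv_mem u.2), ?_⟩⟩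
    have h1 : u * ⟨x, mem_Cf.2 (hQf x hx)⟩ * u⁻¹ ∈ ((u • S₂ : Sylow p ↥(Cf f)) : Subgroup ↥(Cf f)) := by
      rw [Sylow.coe_subgroup_smul]
      exact Subgroup.smul_mem_pointwise_smul _ _ _ (hS₂ (mem_subgroupOf.2 hx))
    rw [hu, IsPGroup.toSylow_coe] at h1
    exact h1
  · -- the `p`-part of `C(f, t)`
    rintro x hxf hxt ⟨k, hk⟩
    set D := (centralizer ({t} : Set G) ⊓ Cf f) with hD
    have hle : zpowers f ≤ D := zpowers_le.2 ⟨h.le_centralizer T.f_mem_E, mem_Cf.2 rfl⟩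
    have hxD : x ∈ D := ⟨mem_centralizer_singleton_iff.2 hxt, mem_Cf.2 hxf⟩
    have hi : ¬ p ∣ ((zpowers f).subgroupOf D).index := by
      have h1 := ((zpowers f).subgroupOf D).card_mul_index
      rw [T.card_cent, Nat.card_congr (subgroupOfEquivOfLe hle).toEquiv, Nat.card_zpowers, T.order,
        T.two_card_psl] at h1
      obtain ⟨m, hm, hpm⟩ := T.part
      rw [hm, show q * (q ^ 2 - 1) * (p ^ b * m) = p ^ b * (q * (q ^ 2 - 1) * m) by ring] at h1
      rw [Nat.eq_of_mul_eq_mul_left (pow_pos T.prime.pos b) h1]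
      have hΦ : p ∣ q ^ 2 - q + 1 := Lv.p_dvd T hp5 hbig
      intro h2
      rcases (Nat.Prime.dvd_mul T.prime).1 h2 with h2 | h2
      swap
      · exact hpm h2
      zify [Nat.le_self_pow two_ne_zero q, Nat.one_le_pow 2 q (by omega)] at hΦ h2
      rcases (Nat.prime_iff_prime_int.1 T.prime).dvd_or_dvd h2 with h3 | h3
      · have h4 := dvd_sub hΦ (h3.mul_right ((q : ℤ) - 1))
        rw [show (q : ℤ) ^ 2 - q + 1 - q * ((q : ℤ) - 1) = ((1 : ℕ) : ℤ) by push_cast; ring] at h4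
        exact T.prime.one_lt.ne' (Nat.dvd_one.1 (Int.natCast_dvd_natCast.1 h4))
      · -- `q ≡ 2`, so `3 ≡ 0`
        have h4 : (p : ℤ) ∣ (q : ℤ) - 2 := by
          have := dvd_sub h3 hΦ
          rwa [show (q : ℤ) ^ 2 - 1 - ((q : ℤ) ^ 2 - q + 1) = (q : ℤ) - 2 by ring] at this
        have h5 := dvd_sub h3 (h4.mul_right ((q : ℤ) + 2))
        rw [show (q : ℤ) ^ 2 - 1 - ((q : ℤ) - 2) * ((q : ℤ) + 2) = ((3 : ℕ) : ℤ) by push_cast; ring,
          Int.natCast_dvd_natCast] at h5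
        have := (Nat.prime_dvd_prime_iff_eq T.prime Nat.prime_three).1 h5
        omega
    have hZ₂ : IsPGroup p ↥((zpowers f).subgroupOf D) := (IsPGroup.of_card (n := b)
      (by rw [Nat.card_zpowers, T.order]) : IsPGroup p ↥(zpowers f)).of_equiv (subgroupOfEquivOfLe hle).symm
    haveI : ((zpowers f).subgroupOf D).Normal := ⟨fun z hz g => by
      have hg : Commute (g : G) z := by
        obtain ⟨i, hi⟩ := mem_zpowers_iff.1 (mem_subgroupOf.1 hz)
        rw [← hi]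
        exact (show Commute (g : G) f from mem_Cf.1 g.2.2).zpow_right i
      rwa [show g * z * g⁻¹ = z from Subtype.ext (by push_cast; rw [hg.eq, mul_inv_cancel_right])]⟩
    have hone : ((⟨x, hxD⟩ : ↥D) : ↥D ⧸ (zpowers f).subgroupOf D) = 1 := by
      refine orderOf_eq_one_iff.1 (Nat.eq_one_of_dvd_coprimes (a := p ^ k) (Nat.Coprime.pow_left k
        (T.prime.coprime_iff_not_dvd.2 hi)) ?_ (orderOf_dvd_natCard _))
      · refine orderOf_dvd_of_pow_eq_one ?_
        rw [← QuotientGroup.mk_pow, QuotientGroup.eq_one_iff]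
        exact mem_subgroupOf.2 (by push_cast; rw [hk]; exact one_mem _)
    exact mem_subgroupOf.1 ((QuotientGroup.eq_one_iff _).1 hone)
  · -- the Sylow 2-subgroup of `N(A) ∩ C(f, t)`
    rintro x hxf hxt hxA ⟨k, hk⟩
    set ξ := π ⟨x, mem_Cf.2 hxf⟩ with hξ
    have hξk : ξ ^ 2 ^ k = 1 := by
      rw [hξ, ← map_pow]
      exact (congrArg π (Subtype.ext (by push_cast; exact hk))).trans (map_one _)
    have hξX : ξ ∈ X := by
      rw [← QuotientGroup.eq_one_iff (N := X), ← orderOf_eq_one_iff]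
      refine Nat.eq_one_of_dvd_coprimes (Nat.Coprime.pow_left k (Nat.coprime_two_left.2 (Lv.index_facts T hbig).1))
        (orderOf_dvd_of_pow_eq_one ?_) (index_eq_card (H := X) ▸ orderOf_dvd_natCard _)
      rw [← QuotientGroup.mk_pow, hξk]; rfl
    have h1 : (⟨ξ, hξX⟩ : ↥X) ∈ zpowers (⟨_, Lv.tmem⟩ : ↥X) := by
      refine R.two _ (Subtype.ext ?_) (fun y hy => ?_) ⟨k, Subtype.ext (by push_cast; exact hξk)⟩
      · show ξ * π ⟨t, htf⟩ = π ⟨t, htf⟩ * ξ
        rw [hξ, ← map_mul, ← map_mul]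
        exact congrArg π (Subtype.ext hxt)
      · obtain ⟨a, ha⟩ := QuotientGroup.mk'_surjective (Zf f) (y : Qf f)
        have haA : (a : G) ∈ A := hAmem.2 ⟨a.2, ⟨y, hy, ha.symm⟩⟩
        obtain ⟨hC', w, hw, hwe⟩ := hAmem.1 (hxA _ haA)
        have h2 : (⟨ξ, hξX⟩ : ↥X) * y * (⟨ξ, hξX⟩ : ↥X)⁻¹ = w := by
          refine Subtype.ext (Eq.trans ?_ hwe.symm)
          show ξ * (y : Qf f) * ξ⁻¹ = _
          rw [hξ, ← ha, ← map_inv, ← map_mul, ← map_mul]
          rfl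
        rw [h2]; exact hw
    obtain ⟨i, hi⟩ := mem_zpowers_iff.1 h1
    have hi' : π ((⟨t, htf⟩ : ↥(Cf f)) ^ i) = π ⟨x, mem_Cf.2 hxf⟩ := by
      rw [map_zpow]
      have := congrArg Subtype.val hi
      rwa [SubgroupClass.coe_zpow] at this
    rw [QuotientGroup.mk'_eq_mk'] at hi'
    obtain ⟨z, hz, he⟩ := hi'
    have he' : t ^ i * (z : G) = x := by
      have := congrArg Subtype.val he
      push_cast at this
      exact this
    have hc : Commute (t ^ i) (z : G) := by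
      obtain ⟨j, hj⟩ := mem_zpowers_iff.1 (mem_subgroupOf.1 hz)
      rw [← hj]
      exact ((show Commute t f from mem_Cf.1 htf).zpow_left i).zpow_right j
    have hz1 : (z : G) = 1 := by
      have hti : (t ^ i) ^ 2 ^ (k + 1) = 1 := by
        rw [← zpow_natCast, ← zpow_mul, mul_comm, zpow_mul, zpow_natCast, pow_succ', pow_mul,
          pow_two, htt, one_pow, one_zpow]
      have h3 : (z : G) ^ 2 ^ (k + 1) = 1 := by
        have h4 : x ^ 2 ^ (k + 1) = 1 := by rw [pow_succ, pow_mul, hk, one_pow]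
        rwa [← he', hc.mul_pow, hti, one_mul] at h4
      exact orderOf_eq_one_iff.1 (Nat.eq_one_of_dvd_coprimes
        ((Nat.coprime_two_left.2 T.odd_order).pow_left (k + 1)) (orderOf_dvd_of_pow_eq_one h3)
        (T.order ▸ orderOf_dvd_of_mem_zpowers (mem_subgroupOf.1 hz)))
    exact ⟨i, by rw [← he', hz1, mul_one]⟩
  · -- `c` is the `l`-th power on inverted elements
    intro a ha hat
    obtain ⟨z, hz, he⟩ := hscalG a ha
    have h1 : Commute t z := by
      obtain ⟨i, rfl⟩ := mem_zpowers_iff.1 hz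
      exact (show Commute t f from mem_Cf.1 htf).zpow_right i
    have h2 : t * ((c₀ : G) * a * (c₀ : G)⁻¹) * t⁻¹ = ((c₀ : G) * a * (c₀ : G)⁻¹)⁻¹ := by
      calc t * ((c₀ : G) * a * (c₀ : G)⁻¹) * t⁻¹ = (t * c₀) * a * ((c₀ : G)⁻¹ * t⁻¹) := by group
        _ = ((c₀ : G) * t) * a * (((c₀ : G) * t)⁻¹) := by rw [← mul_inv_rev, hct]
        _ = (c₀ : G) * (t * a * t⁻¹) * (c₀ : G)⁻¹ := by group
        _ = _ := by rw [hat]; group
    rw [he] at h2 ⊢
    have h4 : Commute (a ^ R.l) z := by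
      obtain ⟨i, rfl⟩ := mem_zpowers_iff.1 hz
      exact ((show Commute a f from hAf a ha).pow_left _).zpow_right i
    rw [show t * (a ^ R.l * z) * t⁻¹ = (t * a ^ R.l * t⁻¹) * (t * z * t⁻¹) by group, ← conj_pow, hat,
      h1.eq, mul_inv_cancel_right, h4.mul_inv, inv_pow] at h2
    have h5 : z = z⁻¹ := mul_left_cancel h2
    rw [T.eq_one_of_sq hz (mul_eq_one_iff_eq_inv.2 h5), mul_one]
  · intro hd
    have := Nat.le_of_dvd (by norm_num) hd
    omega
  · exact R.l_cube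

end Level

/-- **`StepBig`** from the structure of `C(f)/⟨f⟩` and the `p`-local half -/
theorem stepBig_of (hL : LevelStatement.{u}) (hP : PPartStatement.{u}) : StepBig.{u} := by
  intro G _ _ t E L F _ _ h Φ s₁ s₂ p b f F₀ _ _ T hc hbelow
  obtain ⟨hp5, hbig⟩ := hc
  obtain ⟨htf, X, Lv⟩ := hL G t E L F h Φ s₁ s₂ p b f F₀ T hbig hbelow
  haveI : Fact p.Prime := ⟨T.prime⟩
  obtain ⟨c, A, l, d, hpp⟩ := Lv.exists_ppart T hp5 hbig
  obtain ⟨φ, hφ⟩ := hP G p f t c A l d hpp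
  haveI := h.simple
  rcases (inferInstance : φ.ker.Normal).eq_bot_or_eq_top with e | e
  · exact h.not_comm ⟨⟨fun x y => (MonoidHom.ker_eq_bot_iff φ).1 e (by rw [map_mul, map_mul, mul_comm])⟩⟩
  · exact hφ (MonoidHom.mem_ker.1 (e ▸ mem_top f))

end CfsgLib.Walter.Field
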