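import Cfsg.Agent.Lib.Recog.Walter.Field.Big.Main
import Cfsg.Agent.Lib.Recog.Walter.Field.PPart.Transfer

/-!
Owner: helper22. Walter, field part: `StepBig` from the structure of `C(f)/⟨f⟩`.
-/

set_option autoImplicit false

namespace CfsgLib.Walter.Field

universe u

/-- **`StepBig`** from the structure of `C(f)/⟨f⟩`. -/
theorem stepBig (hL : LevelStatement.{u}) : StepBig.{u} := stepBig_of hL pPartStatement

end CfsgLib.Walter.Field
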