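import Cfsg.Agent.Lib.Recog.Walter.Field.Big.Level

/-!
Owner: helper22. Walter, field part: the transfer at a field automorphism `f` of order `p ^ b` into
`C(t) → Φ → Z/p` is the number of involutions of `C(f)` times `f`; in a simple group `p` divides that number, so
`p ∣ q₀² - q₀ + 1`.
-/

set_option autoImplicit false
set_option linter.all false

namespace CfsgLib.Walter.Field

open Subgroup
open CfsgLib.Recog.JankoThompson (P2)

universe u

variable {G : Type u} [Group G] [Finite G] {t : G} {E L : Subgroup G} {F : Type} [Field F] [Fintype F]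
  {h : Setting t E L F} {Φ : Subgroup G} {s₁ s₂ : G} {p b : ℕ} {f : G} {F₀ : Type} [Field F₀] [Fintype F₀]

theorem Setting.not_comm (h : Setting t E L F) : ¬ IsMulCommutative G := fun hc => by
  obtain ⟨e⟩ := h.iso
  haveI := h.simple_L
  have hcL : ∀ a b : ↥L, a * b = b * a := fun a b => Subtype.ext (hc.is_comm.comm a.1 b.1)
  letI : CommGroup ↥L := { (inferInstance : Group ↥L) with mul_comm := hcL }
  have hp := IsSimpleGroup.prime_card (α := ↥L)
  rw [Nat.card_congr e.toEquiv] at hp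
  have h2 := CfsgLib.Classical.Two.card_PSL_two (F := F)
  rw [Nat.gcd_eq_left (show 2 ∣ Fintype.card F - 1 by rcases h.mod8 with e' | e' <;> omega)] at h2
  have h5 := h.five
  have hsq : 24 ≤ Fintype.card F ^ 2 - 1 := by
    have : 25 ≤ Fintype.card F ^ 2 := le_trans (by norm_num) (Nat.pow_le_pow_left h5 2)
    omega
  rcases hp.eq_two_or_odd with e2 | e2
  · rw [e2] at h2
    have := Nat.mul_le_mul h5 hsq
    omega
  · have h3 : 8 ∣ Fintype.card F ^ 2 - 1 := Nat.dvd_of_mod_eq_zero (Nat.sub_mod_eq_zero_of_mod_eq (by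
      rw [Nat.pow_mod]; rcases h.mod8 with e' | e' <;> rw [e']))
    have h4 : 8 ∣ 2 * Nat.card (Matrix.ProjectiveSpecialLinearGroup (Fin 2) F) := h2 ▸ h3.mul_left _
    omega

/-- decompositions `a l φ` in `C(t)` are unique -/
theorem decomp_unique (T : Top h Φ s₁ s₂ p b f F₀) {a a' l l' φ φ' : G} (ha : a ∈ zpowers t) (ha' : a' ∈ zpowers t)
    (hl : l ∈ L) (hl' : l' ∈ L) (hφ : φ ∈ Φ) (hφ' : φ' ∈ Φ) (he' : a * (l * φ) = a' * (l' * φ')) : φ = φ' := by
  have h1 : a'⁻¹ * a ∈ zpowers t ⊓ E := by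
    refine ⟨mul_mem ((zpowers t).inv_mem ha') ha, ?_⟩
    rw [show a'⁻¹ * a = (l' * φ') * (l * φ)⁻¹ by
      rw [eq_mul_inv_iff_mul_eq, mul_assoc, he', inv_mul_cancel_left]]
    exact mul_mem (mul_mem (h.le hl') (T.galois.le hφ')) (E.inv_mem (mul_mem (h.le hl) (T.galois.le hφ)))
  rw [h.prod.2.2.2.1, mem_bot, inv_mul_eq_one] at h1
  subst h1
  have he2 : l * φ = l' * φ' := mul_left_cancel he'
  have h2 : l'⁻¹ * l ∈ Φ ⊓ L := by
    refine ⟨?_, L.mul_mem (L.inv_mem hl') hl⟩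
    rw [show l'⁻¹ * l = φ' * φ⁻¹ by rw [eq_mul_inv_iff_mul_eq, mul_assoc, he2, inv_mul_cancel_left]]
    exact mul_mem hφ' (Φ.inv_mem hφ)
  rw [T.galois.inf, mem_bot, inv_mul_eq_one] at h2
  subst h2
  exact mul_left_cancel he2

/-- the projection `C(t) → Φ` -/
theorem exists_proj (T : Top h Φ s₁ s₂ p b f F₀) :
    ∃ ρ : ↥(centralizer ({t} : Set G)) →* ↥Φ, ∀ x : ↥(centralizer ({t} : Set G)), (x : G) ∈ Φ → (ρ x : G) = x := by
  have hdec : ∀ x : ↥(centralizer ({t} : Set G)),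
      ∃ φ : ↥Φ, ∃ a ∈ zpowers t, ∃ l ∈ L, (x : G) = a * (l * φ) := by
    intro x
    obtain ⟨e, he, he' | he'⟩ := h.loc.form x x.2
    · obtain ⟨l, hl, φ, hφ, rfl⟩ := T.galois.cover e he
      exact ⟨⟨φ, hφ⟩, 1, one_mem _, l, hl, by rw [one_mul]; exact he'⟩
    · obtain ⟨l, hl, φ, hφ, rfl⟩ := T.galois.cover e he
      exact ⟨⟨φ, hφ⟩, t, mem_zpowers t, l, hl, he'⟩
  choose ρ hρ using hdec
  have huniq : ∀ (x : ↥(centralizer ({t} : Set G))) (a l : G) (φ : ↥Φ), a ∈ zpowers t → l ∈ L →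
      (x : G) = a * (l * φ) → ρ x = φ := fun x a l φ ha hl hx => by
    obtain ⟨a', ha', l', hl', hx'⟩ := hρ x
    exact Subtype.ext (decomp_unique T ha' ha hl' hl (ρ x).2 φ.2 (hx'.symm.trans hx))
  refine ⟨MonoidHom.mk' ρ fun x y => ?_, fun x hx => ?_⟩
  · obtain ⟨a, ha, l, hl, hx⟩ := hρ x
    obtain ⟨a', ha', l', hl', hy⟩ := hρ y
    have hcomm : ∀ {a e : G}, a ∈ zpowers t → e ∈ E → e * a = a * e := fun {a e} ha he =>
      (h.prod.2.2.1 a ha e he).symm
    refine huniq (x * y) (a * a') (l * ((ρ x : G) * l' * (ρ x : G)⁻¹)) (ρ x * ρ y) (mul_mem ha ha') ?_ ?_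
    · exact mul_mem hl ((mem_normalizer_iff.1 (h.normal (T.galois.le (ρ x).2)) l').1 hl')
    · push_cast
      rw [hx, hy, show a * (l * (ρ x : G)) * (a' * (l' * (ρ y : G))) =
        a * ((l * (ρ x : G)) * a') * (l' * (ρ y : G)) by group,
        hcomm ha' (mul_mem (h.le hl) (T.galois.le (ρ x).2))]
      group
  · show ((ρ x : ↥Φ) : G) = x
    rw [huniq x 1 1 ⟨x, hx⟩ (one_mem _) (one_mem _) (by simp)]

/-- a character of `C(t)` of order `p`, nontrivial at `f`, trivial on elements of smaller `p`-power order -/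
theorem exists_char (T : Top h Φ s₁ s₂ p b f F₀) :
    ∃ χ : ↥(centralizer ({t} : Set G)) →* Multiplicative (ZMod p),
      χ ⟨f, h.le_centralizer T.f_mem_E⟩ ≠ 1 ∧
      ∀ y : ↥(centralizer ({t} : Set G)), (y : G) ^ p ^ (b - 1) = 1 → χ y = 1 := by
  classical
  obtain ⟨ρ, hρ⟩ := exists_proj T
  haveI := T.galois.cyclic
  obtain ⟨m, hm, hpm⟩ := T.part
  have hn : Nat.card ↥Φ = p ^ b * m := T.galois.card.trans hm
  let N := Nat.card ↥Φ
  haveI : NeZero N := ⟨Nat.card_pos.ne'⟩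
  let e : Multiplicative (ZMod N) ≃* ↥Φ := zmodCyclicMulEquiv inferInstance
  have hpN : p ∣ N := ((dvd_pow_self p T.pos.ne').mul_right m).trans (dvd_of_eq hn.symm)
  let red : ZMod N →+ ZMod p := (ZMod.castHom hpN (ZMod p)).toAddMonoidHom
  let χ : ↥(centralizer ({t} : Set G)) →* Multiplicative (ZMod p) :=
    (AddMonoidHom.toMultiplicative red).comp (e.symm.toMonoidHom.comp ρ)
  have hred : ∀ i : ZMod N, red i = 0 ↔ p ∣ i.val := fun i => by
    show ZMod.castHom hpN (ZMod p) i = 0 ↔ _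
    conv_lhs => rw [← ZMod.natCast_zmod_val i, map_natCast]
    exact CharP.cast_eq_zero_iff (ZMod p) p _
  have hχ : ∀ y, χ y = 1 ↔ p ∣ (e.symm (ρ y)).toAdd.val := fun y => by
    rw [← hred]; rfl
  have hpow : ∀ (φ : ↥Φ) (k : ℕ), φ ^ k = 1 ↔ N ∣ k * (e.symm φ).toAdd.val := fun φ k => by
    rw [← e.symm.map_eq_one_iff, map_pow, ← toAdd_eq_zero, toAdd_pow]
    conv_lhs => rw [← ZMod.natCast_zmod_val (e.symm φ).toAdd, nsmul_eq_mul, ← Nat.cast_mul]
    exact CharP.cast_eq_zero_iff (ZMod N) N _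
  refine ⟨χ, fun hf => ?_, fun y hy => (hχ y).2 ?_⟩
  · rw [hχ] at hf
    set φ := ρ ⟨f, h.le_centralizer T.f_mem_E⟩ with hφ
    have hord : orderOf φ = p ^ b := by
      rw [← Subgroup.orderOf_coe, hρ _ T.mem, T.order]
    have h1 : N ∣ p ^ b * (e.symm φ).toAdd.val := (hpow φ _).1 (hord ▸ pow_orderOf_eq_one φ)
    have h2 : m ∣ (e.symm φ).toAdd.val := by
      exact Nat.dvd_of_mul_dvd_mul_left (pow_pos T.prime.pos b) ((dvd_of_eq hn.symm).trans h1)
    have h3 : p * m ∣ (e.symm φ).toAdd.val := (T.prime.coprime_iff_not_dvd.2 hpm).mul_dvd_of_dvd_of_dvd hf h2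
    have h4 : φ ^ p ^ (b - 1) = 1 := (hpow φ _).2 (by
      refine dvd_trans (dvd_of_eq ?_) (mul_dvd_mul_left _ h3)
      show Nat.card ↥Φ = _
      rw [hn, ← mul_assoc, ← pow_succ, Nat.sub_add_cancel T.pos])
    have h5 := orderOf_dvd_of_pow_eq_one h4
    rw [hord, Nat.pow_dvd_pow_iff_le_right T.prime.one_lt] at h5
    have := T.pos
    omega
  · have h1 : ρ y ^ p ^ (b - 1) = 1 := by
      rw [← map_pow, show y ^ p ^ (b - 1) = 1 from Subtype.ext (by push_cast; exact hy), map_one]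
    have h2 := (hpow _ _).1 h1
    have h3 : p ^ (b - 1) * (p * m) ∣ p ^ (b - 1) * (e.symm (ρ y)).toAdd.val := by
      refine (dvd_of_eq ?_).trans h2
      show _ = Nat.card ↥Φ
      rw [hn, ← mul_assoc, ← pow_succ, Nat.sub_add_cancel T.pos]
    exact (dvd_mul_right p m).trans (Nat.dvd_of_mul_dvd_mul_left (pow_pos T.prime.pos _) h3)

namespace Level

variable (T : Top h Φ s₁ s₂ p b f F₀) {htf : t ∈ Cf f} {X : Subgroup (Qf f)} (Lv : Level t f htf F₀ X)
include T Lv

/-- the involutions of `C(f)` are conjugate to `t` in `C(f)` -/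
theorem conj_to_t (hbig : 11 ≤ Fintype.card F₀) {s : G} (hs : orderOf s = 2) (hsf : s ∈ Cf f) :
    ∃ u ∈ Cf f, u * s * u⁻¹ = t := by
  haveI := Lv.normal
  have hs2 : s * s = 1 := by rw [← pow_two, ← hs, pow_orderOf_eq_one]
  set σ : Qf f := QuotientGroup.mk' (Zf f) ⟨s, hsf⟩ with hσ
  have hσ2 : σ ^ 2 = 1 := by
    rw [← map_pow]
    exact (congrArg (QuotientGroup.mk' (Zf f)) (Subtype.ext (by push_cast; rw [pow_two, hs2]))).trans (map_one _)
  have hσX : σ ∈ X := by
    obtain ⟨j, hj⟩ := (Lv.index_facts T hbig).1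
    have h1 := X.pow_index_mem σ
    rwa [hj, pow_succ, pow_mul, hσ2, one_pow, one_mul] at h1
  have hσ1 : σ ≠ 1 := fun e => by
    have h1 : (⟨s, hsf⟩ : ↥(Cf f)) ∈ Zf f := (QuotientGroup.eq_one_iff _).1 e
    have h2 : orderOf s ∣ p ^ b := T.order ▸ orderOf_dvd_of_mem_zpowers (mem_subgroupOf.1 h1)
    rw [hs] at h2
    exact (Nat.not_even_iff_odd.2 T.odd_order) (even_iff_two_dvd.2 h2)
  haveI : Fact (Nat.Prime 2) := ⟨Nat.prime_two⟩
  obtain ⟨x, hx⟩ := Lv.one_class T hbig ⟨σ, hσX⟩ (by rw [← orderOf_coe]; exact orderOf_eq_prime hσ2 hσ1)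
  obtain ⟨u, hu⟩ := QuotientGroup.mk'_surjective (Zf f) (x : Qf f)
  have hx' : QuotientGroup.mk' (Zf f) (u * ⟨s, hsf⟩ * u⁻¹) = QuotientGroup.mk' (Zf f) ⟨t, htf⟩ := by
    rw [map_mul, map_mul, map_inv, hu]; exact congrArg Subtype.val hx
  rw [QuotientGroup.mk'_eq_mk'] at hx'
  obtain ⟨z, hz, he⟩ := hx'
  have he' : (u : G) * s * (u : G)⁻¹ * z = t := congrArg Subtype.val he
  have hzr : Commute ((u : G) * s * (u : G)⁻¹) z := by
    simpa [Commute, SemiconjBy] using congrArg Subtype.val (Zf_comm hz (u * (⟨s, hsf⟩ : ↥(Cf f)) * u⁻¹))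
  have hz2 : (z : G) * z = 1 := by
    have htt : t * t = 1 := by rw [← pow_two, ← h.ord, pow_orderOf_eq_one]
    rw [← he', show (u : G) * s * (u : G)⁻¹ * z * ((u : G) * s * (u : G)⁻¹ * z) =
      (u : G) * s * (u : G)⁻¹ * (z * ((u : G) * s * (u : G)⁻¹)) * z by group, ← hzr.eq,
      show (u : G) * s * (u : G)⁻¹ * ((u : G) * s * (u : G)⁻¹ * z) * z = (u : G) * (s * s) * (u : G)⁻¹ * (z * z) by
        group, hs2, mul_one, mul_inv_cancel, one_mul] at htt
    exact htt
  have hz1 : (z : G) = 1 := orderOf_eq_one_iff.1 (Nat.eq_one_of_dvd_coprimes (Nat.coprime_two_left.2 T.odd_order)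
      (orderOf_dvd_of_pow_eq_one (by rw [pow_two, hz2]))
      (T.order ▸ orderOf_dvd_of_mem_zpowers (mem_subgroupOf.1 hz)))
  exact ⟨u, u.2, by rwa [hz1, mul_one] at he'⟩

/-- the number of involutions of `C(f)` -/
theorem card_invol (hbig : 11 ≤ Fintype.card F₀) :
    ((centralizer ({t} : Set G)).subgroupOf (Cf f)).index * (2 * Nat.card (P2 F₀)) = Nat.card ↥X := by
  haveI := Lv.normal
  have h1 := ((centralizer ({t} : Set G)).subgroupOf (Cf f)).card_mul_index
  have hc : Nat.card ↥((centralizer ({t} : Set G)).subgroupOf (Cf f)) = 2 * Nat.card (P2 F₀) * h.n := by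
    rw [← T.card_cent]
    exact Nat.card_congr
      { toFun := fun x => ⟨x.1.1, mem_subgroupOf.1 x.2, x.1.2⟩
        invFun := fun x => ⟨⟨x.1, x.2.2⟩, mem_subgroupOf.2 x.2.1⟩
        left_inv := fun x => rfl
        right_inv := fun x => rfl }
  have hZ : Nat.card ↥(Zf f) = p ^ b := by
    rw [Zf, Nat.card_congr (subgroupOfEquivOfLe (show zpowers f ≤ Cf f from zpowers_le.2 (mem_Cf.2 rfl))).toEquiv,
      Nat.card_zpowers, T.order]
  have h2 := (Zf f).card_mul_index
  rw [hZ, index_eq_card] at h2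
  have h3 := X.card_mul_index
  rw [hc, ← h2, ← h3, ← Lv.index_mul T hbig] at h1
  refine Nat.eq_of_mul_eq_mul_left (Nat.mul_pos (Nat.pos_of_ne_zero (index_ne_zero_of_finite (H := X)))
    (pow_pos T.prime.pos b)) ?_
  linarith

/-- **`p` divides `q₀² - q₀ + 1`** -/
theorem p_dvd (hp5 : 5 ≤ p) (hbig : 11 ≤ Fintype.card F₀) :
    p ∣ Fintype.card F₀ ^ 2 - Fintype.card F₀ + 1 := by
  classical
  haveI : Fact p.Prime := ⟨T.prime⟩
  set H := centralizer ({t} : Set G) with hH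
  obtain ⟨χ, hχf, hχsmall⟩ := exists_char T
  set V := MonoidHom.transfer χ with hV
  haveI := h.simple
  have hV1 : V f = 1 := by
    rcases (inferInstance : V.ker.Normal).eq_bot_or_eq_top with e | e
    · refine absurd ?_ h.not_comm
      exact ⟨⟨fun a b => (MonoidHom.ker_eq_bot_iff V).1 e (by rw [map_mul, map_mul, mul_comm])⟩⟩
    · exact MonoidHom.mem_ker.1 (e ▸ mem_top f)
  haveI : Fintype (Quotient (MulAction.orbitRel (zpowers f) (G ⧸ H))) := Fintype.ofFinite _
  rw [hV, MonoidHom.transfer_eq_prod_quotient_orbitRel_zpowers_quot] at hV1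
  set per : Quotient (MulAction.orbitRel (zpowers f) (G ⧸ H)) → ℕ := fun q =>
    Function.minimalPeriod (f • ·) q.out with hper
  have hfb : f ^ p ^ b = 1 := T.order ▸ pow_orderOf_eq_one f
  have hfix : ∀ {g : G}, f • (g : G ⧸ H) = (g : G ⧸ H) ↔ g⁻¹ * f * g ∈ H := fun {g} => by
    rw [eq_comm, MulAction.Quotient.smul_coe, QuotientGroup.eq, smul_eq_mul, mul_assoc]
  have hval : ∀ q, χ ⟨q.out.out⁻¹ * f ^ per q * q.out.out,
      QuotientGroup.out_conj_pow_minimalPeriod_mem H f q.out⟩ =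
        if per q = 1 then χ ⟨f, h.le_centralizer T.f_mem_E⟩ else 1 := by
    intro q
    have hdvd : per q ∣ p ^ b := by
      refine Function.IsPeriodicPt.minimalPeriod_dvd ?_
      show (f • ·)^[p ^ b] q.out = q.out
      rw [smul_iterate]
      show f ^ p ^ b • q.out = q.out
      rw [hfb, one_smul]
    split_ifs with h1
    · set g := q.out.out with hg
      have hgH : g⁻¹ * f * g ∈ H := by
        have := QuotientGroup.out_conj_pow_minimalPeriod_mem H f q.out
        rwa [show Function.minimalPeriod (f • ·) q.out = 1 from h1, pow_one] at this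
      have hs : orderOf (g * t * g⁻¹) = 2 := by rw [← MulAut.conj_apply, MulEquiv.orderOf_eq, h.ord]
      have hsf : g * t * g⁻¹ ∈ Cf f := mem_Cf.2 (by
        have h2 : g⁻¹ * f * g * t = t * (g⁻¹ * f * g) := mem_centralizer_singleton_iff.1 hgH
        calc g * t * g⁻¹ * f = g * (t * (g⁻¹ * f * g)) * g⁻¹ := by group
          _ = g * (g⁻¹ * f * g * t) * g⁻¹ := by rw [h2]
          _ = f * (g * t * g⁻¹) := by group)
      obtain ⟨u, hu, hut⟩ := Lv.conj_to_t T hbig hs hsf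
      have hc : u * g ∈ H := mem_centralizer_singleton_iff.2 (mul_inv_eq_iff_eq_mul.1 (by
        rw [show u * g * t * (u * g)⁻¹ = u * (g * t * g⁻¹) * u⁻¹ by group, hut]))
      have hf' : u⁻¹ * f * u = f := by rw [mul_assoc, ← mem_Cf.1 hu, inv_mul_cancel_left]
      have he : (⟨g⁻¹ * f ^ per q * g, QuotientGroup.out_conj_pow_minimalPeriod_mem H f q.out⟩ : ↥H) =
          (⟨u * g, hc⟩ : ↥H)⁻¹ * ⟨f, h.le_centralizer T.f_mem_E⟩ * ⟨u * g, hc⟩ := Subtype.ext (by
        push_cast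
        rw [h1, pow_one, mul_inv_rev, show g⁻¹ * u⁻¹ * f * (u * g) = g⁻¹ * (u⁻¹ * f * u) * g by group, hf'])
      rw [he, map_mul, map_mul, mul_comm, ← mul_assoc, ← map_mul, mul_inv_cancel, map_one, one_mul]
    · refine hχsmall _ ?_
      obtain ⟨j, -, hj⟩ := (Nat.dvd_prime_pow T.prime).1 hdvd
      have hj0 : j ≠ 0 := fun e => h1 (by rw [hj, e, pow_zero])
      show (q.out.out⁻¹ * f ^ per q * q.out.out) ^ p ^ (b - 1) = 1
      rw [show q.out.out⁻¹ * f ^ per q * q.out.out = q.out.out⁻¹ * f ^ per q * (q.out.out⁻¹)⁻¹ by rw [inv_inv],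
        conj_pow, ← pow_mul, hj, ← pow_add]
      have : f ^ p ^ (j + (b - 1)) = 1 :=
        orderOf_dvd_iff_pow_eq_one.1 (T.order ▸ pow_dvd_pow p (by omega))
      rw [this]; group
  rw [Finset.prod_congr rfl fun q _ => hval q, Finset.prod_ite, Finset.prod_const, Finset.prod_const, one_pow,
    mul_one] at hV1
  -- the fixed cosets
  have hcount : (Finset.univ.filter fun q => per q = 1).card = (H.subgroupOf (Cf f)).index := by
    rw [← Fintype.card_subtype, ← Nat.card_eq_fintype_card, index_eq_card]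
    have hper1 : ∀ q, per q = 1 ↔ f • q.out = q.out := fun q => Function.minimalPeriod_eq_one_iff_isFixedPt
    have hone : ∀ x : G ⧸ H, f • x = x → ∀ k : zpowers f, k • x = x := fun x hx ⟨k, hk⟩ => by
      obtain ⟨i, rfl⟩ := mem_zpowers_iff.1 hk
      exact (zpow_mem (show f ∈ MulAction.stabilizer G x from hx) i : f ^ i ∈ MulAction.stabilizer G x)
    refine Nat.card_congr (Equiv.trans (β := {x : G ⧸ H // f • x = x}) ?_ ?_)
    · refine
        { toFun := fun q => ⟨q.1.out, (hper1 q.1).1 q.2⟩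
          invFun := fun x => ⟨Quotient.mk'' x.1, ?_⟩
          left_inv := fun q => Subtype.ext (Quotient.out_eq' q.1)
          right_inv := fun x => Subtype.ext ?_ }
      · rw [hper1]
        obtain ⟨k, hk⟩ : (Quotient.mk'' x.1 : Quotient (MulAction.orbitRel (zpowers f) (G ⧸ H))).out ∈
            MulAction.orbit (zpowers f) x.1 := MulAction.orbitRel_apply.1 (Quotient.exact' (Quotient.out_eq' _))
        rw [← hk, show (fun m : zpowers f => m • x.1) k = x.1 from hone x.1 x.2 k, x.2]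
      · obtain ⟨k, hk⟩ : (Quotient.mk'' x.1 : Quotient (MulAction.orbitRel (zpowers f) (G ⧸ H))).out ∈
            MulAction.orbit (zpowers f) x.1 := MulAction.orbitRel_apply.1 (Quotient.exact' (Quotient.out_eq' _))
        exact hk.symm.trans (hone x.1 x.2 k)
    · refine (Equiv.ofBijective (fun c : ↥(Cf f) ⧸ H.subgroupOf (Cf f) =>
        (⟨Quotient.liftOn' c (fun u => ((u : G) : G ⧸ H)) ?_, ?_⟩ : {x : G ⧸ H // f • x = x})) ⟨?_, ?_⟩).symm
      · intro u v huv
        exact QuotientGroup.eq.2 (mem_subgroupOf.1 (QuotientGroup.leftRel_apply.1 huv))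
      · induction c using Quotient.inductionOn' with
        | h u =>
          show f • ((u : G) : G ⧸ H) = ((u : G) : G ⧸ H)
          rw [hfix, mul_assoc, ← mem_Cf.1 u.2, inv_mul_cancel_left]
          exact h.le_centralizer T.f_mem_E
      · intro c d
        induction c using Quotient.inductionOn' with
        | h u =>
          induction d using Quotient.inductionOn' with
          | h v =>
            intro e
            exact QuotientGroup.eq.2 (mem_subgroupOf.2 (QuotientGroup.eq.1 (congrArg Subtype.val e)))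
      · rintro ⟨x, hx⟩
        obtain ⟨g, rfl⟩ := QuotientGroup.mk_surjective x
        have hg := hfix.1 hx
        have hs : orderOf (g * t * g⁻¹) = 2 := by rw [← MulAut.conj_apply, MulEquiv.orderOf_eq, h.ord]
        have hsf : g * t * g⁻¹ ∈ Cf f := mem_Cf.2 (by
          have h2 : g⁻¹ * f * g * t = t * (g⁻¹ * f * g) := mem_centralizer_singleton_iff.1 hg
          calc g * t * g⁻¹ * f = g * (t * (g⁻¹ * f * g)) * g⁻¹ := by group
            _ = g * (g⁻¹ * f * g * t) * g⁻¹ := by rw [h2]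
            _ = f * (g * t * g⁻¹) := by group)
        obtain ⟨u, hu, hut⟩ := Lv.conj_to_t T hbig hs hsf
        refine ⟨QuotientGroup.mk (⟨u, hu⟩⁻¹ : ↥(Cf f)), Subtype.ext (QuotientGroup.eq.2 ?_)⟩
        show ((u⁻¹ : G))⁻¹ * g ∈ H
        rw [inv_inv]
        exact mem_centralizer_singleton_iff.2 (mul_inv_eq_iff_eq_mul.1 (by
          rw [show u * g * t * (u * g)⁻¹ = u * (g * t * g⁻¹) * u⁻¹ by group, hut]))
  rw [hcount] at hV1
  -- hence `p` divides the number of involutions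
  have hdvd : p ∣ (H.subgroupOf (Cf f)).index := by
    have h1 := orderOf_dvd_of_pow_eq_one hV1
    have h2 : orderOf (χ ⟨f, h.le_centralizer T.f_mem_E⟩) = p :=
      orderOf_eq_prime (by rw [← toAdd_eq_zero, toAdd_pow, nsmul_eq_mul, ZMod.natCast_self, zero_mul]) hχf
    rwa [h2] at h1
  have hci := Lv.card_invol T hbig
  obtain ⟨e⟩ := Lv.cent
  haveI := Lv.simp
  obtain ⟨⟨m, hm, hq⟩, hcard, -⟩ :=
    CfsgLib.Recog.Walter.FieldXLevel.xlocal Lv.ab (Lv.order_tbar T) e T.mod8₀ hbig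
  rw [T.two_card_psl, hcard] at hci
  set q := Fintype.card F₀ with hqdef
  have hq1 : q ≤ q ^ 2 := Nat.le_self_pow two_ne_zero _
  have hq2 : 1 ≤ q ^ 2 := Nat.one_le_pow _ _ (by omega)
  have hk : (H.subgroupOf (Cf f)).index = q ^ 2 * (q ^ 2 - q + 1) := by
    refine Nat.eq_of_mul_eq_mul_right (m := q * (q ^ 2 - 1)) (Nat.mul_pos (by omega)
      (Nat.sub_pos_of_lt (Nat.one_lt_pow two_ne_zero (by omega)))) ?_
    rw [hci]
    zify [hq1, hq2, show 1 ≤ q by omega]
    ring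
  rw [hk] at hdvd
  refine ((Nat.Prime.dvd_mul T.prime).1 hdvd).resolve_left fun h2 => ?_
  rw [hq, ← pow_mul] at h2
  have h3 := (Nat.prime_dvd_prime_iff_eq T.prime Nat.prime_three).1 (T.prime.dvd_of_dvd_pow h2)
  omega

end Level

end CfsgLib.Walter.Field
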